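/-
The checks of the presentation theory for the seven types.
-/
import Cfsg.Agent.Lib.St.Hb
import Cfsg.Agent.Lib.Chev.T3G2
import Cfsg.Agent.Lib.Chev.T3B2
import Cfsg.Agent.Lib.Chev.T3D4
import Cfsg.Agent.Lib.Chev.T3F4
import Cfsg.Agent.Lib.Chev.T3E6
import Cfsg.Agent.Lib.Chev.T3E7
import Cfsg.Agent.Lib.Chev.T3E8

set_option autoImplicit false
set_option maxRecDepth 100000
set_option maxHeartbeats 0

namespace Cfsg.Agent.Lib.St

open Cfsg Cfsg.Lie Cfsg.Agent.Lib.Chev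

/-- The witnesses for type G2. -/
def witG2 (i : ℕ) : ℕ × ℕ := ([(5,8),(1,11)] : List (ℕ × ℕ)).getD i (0, 0)

theorem stChkG2 : chkSt digG2.tbl = true := by decide +kernel

theorem stWitG2 : ChkWit digG2.tbl witG2 := by decide +kernel

theorem stHypG2 : StHyp digG2.tbl witG2 := ⟨stChkG2, stWitG2⟩

/-- The witnesses for type B2. -/
def witB2 (i : ℕ) : ℕ × ℕ := ([(3,6),(7,2)] : List (ℕ × ℕ)).getD i (0, 0)

theorem stChkB2 : chkSt digB2.tbl = true := by decide +kernel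

theorem stWitB2 : ChkWit digB2.tbl witB2 := by decide +kernel

theorem stHypB2 : StHyp digB2.tbl witB2 := ⟨stChkB2, stWitB2⟩

/-- The witnesses for type D4. -/
def witD4 (i : ℕ) : ℕ × ℕ := ([(6,22),(1,23),(3,22),(2,22)] : List (ℕ × ℕ)).getD i (0, 0)

theorem stChkD4 : chkSt digD4.tbl = true := by decide +kernel

theorem stWitD4 : ChkWit digD4.tbl witD4 := by decide +kernel

theorem stHypD4 : StHyp digD4.tbl witD4 := ⟨stChkD4, stWitD4⟩

/-- The witnesses for type F4. -/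
def witF4 (i : ℕ) : ℕ × ℕ := ([(7,44),(8,40),(2,46),(1,47)] : List (ℕ × ℕ)).getD i (0, 0)

theorem stChkF4 : chkSt digF4.tbl = true := by decide +kernel

theorem stWitF4 : ChkWit digF4.tbl witF4 := by decide +kernel

theorem stHypF4 : StHyp digF4.tbl witF4 := ⟨stChkF4, stWitF4⟩

/-- The witnesses for type E6. -/
def witE6 (i : ℕ) : ℕ × ℕ := ([(16,66),(1,71),(5,69),(2,70),(3,69),(4,68)] : List (ℕ × ℕ)).getD i (0, 0)

theorem stChkE6 : chkSt digE6.tbl = true := by decide +kernel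

theorem stWitE6 : ChkWit digE6.tbl witE6 := by decide +kernel

theorem stHypE6 : StHyp digE6.tbl witE6 := ⟨stChkE6, stWitE6⟩

/-- The witnesses for type E7. -/
def witE7 (i : ℕ) : ℕ × ℕ := ([(1,125),(7,122),(2,124),(3,123),(4,122),(5,121),(6,120)] : List (ℕ × ℕ)).getD i (0, 0)

theorem stChkE7 : chkSt digE7.tbl = true := by decide +kernel

theorem stWitE7 : ChkWit digE7.tbl witE7 := by decide +kernel

theorem stHypE7 : StHyp digE7.tbl witE7 := ⟨stChkE7, stWitE7⟩

/-- The witnesses for type E8. -/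
def witE8 (i : ℕ) : ℕ × ℕ := ([(14,233),(7,234),(6,234),(5,235),(4,236),(3,237),(2,238),(1,239)] : List (ℕ × ℕ)).getD i (0, 0)

theorem stChkE8 : chkSt digE8.tbl = true := by decide +kernel

theorem stWitE8 : ChkWit digE8.tbl witE8 := by decide +kernel

theorem stHypE8 : StHyp digE8.tbl witE8 := ⟨stChkE8, stWitE8⟩

/-- All seven types. -/
theorem exists_good {D : ChevalleyDatum}
    (hD : D ∈ [chevG2, chevB2, chevD4, chevF4, chevE6, chevE7, chevE8]) :
    ∃ (T : Tbl) (wit : ℕ → ℕ × ℕ), T.Good3 D ∧ StHyp T wit := by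
  simp only [List.mem_cons, List.not_mem_nil, or_false] at hD
  rcases hD with rfl | rfl | rfl | rfl | rfl | rfl | rfl
  · exact ⟨_, _, good3G2, stHypG2⟩
  · exact ⟨_, _, good3B2, stHypB2⟩
  · exact ⟨_, _, good3D4, stHypD4⟩
  · exact ⟨_, _, good3F4, stHypF4⟩
  · exact ⟨_, _, good3E6, stHypE6⟩
  · exact ⟨_, _, good3E7, stHypE7⟩
  · exact ⟨_, _, good3E8, stHypE8⟩

end Cfsg.Agent.Lib.St
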